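import Groth.Agent.Lib.ZarCoh.AffineBC
import Groth.Agent.Lib.Ample.RelAmple
import Groth.Agent.Lib.Ample.CounitCrit
import Groth.Agent.Lib.Ample.Pullback
import Groth.Agent.Lib.Modules.ProjFormula
import Groth.Agent.Lib.QCoh.Sections
import Groth.Agent.Lib.QCoh.Pushforward
import Groth.Agent.Lib.Snapper.Twist
import Groth.Agent.Lib.HProj.Proper
import Groth.Agent.S0055
import Groth.Agent.S4456
import Groth.Agent.S4457

/-!
# Twists of modules pushed forward along an affine base change
-/

set_option autoImplicit false
set_option linter.style.haveILetI false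
universe u

open CategoryTheory CategoryTheory.Limits AlgebraicGeometry
open Groth.Agent.Lib

noncomputable section

namespace Groth.Agent.Lib.Exchange.AffPush

variable {X Y X' Y' : Scheme.{u}} {f : X ⟶ Y} {g : Y' ⟶ Y} {g' : X' ⟶ X} {f' : X' ⟶ Y'}
  (h : IsPullback g' f' f g)

/-- `g_* f'_* = f_* g'_*` -/
def α (N : X'.Modules) : (Coh.push g).obj ((Coh.push f').obj N) ≅ (Coh.push f).obj ((Coh.push g').obj N) :=
  (Scheme.Modules.pushforwardComp f' g).app N ≪≫ (Scheme.Modules.pushforwardCongr h.w.symm).app N ≪≫
    ((Scheme.Modules.pushforwardComp g' f).app N).symm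

theorem α_natural {N N' : X'.Modules} (a : N ⟶ N') :
    (α h N).hom ≫ (Coh.push f).map ((Coh.push g').map a) =
      (Coh.push g).map ((Coh.push f').map a) ≫ (α h N').hom := by
  simp only [α, Iso.trans_hom, Iso.symm_hom, Iso.app_hom, Iso.app_inv, Category.assoc]
  have e1 := (Scheme.Modules.pushforwardComp g' f).inv.naturality a
  have e2 := (Scheme.Modules.pushforwardCongr h.w.symm).hom.naturality a
  have e3 := (Scheme.Modules.pushforwardComp f' g).hom.naturality a
  simp only [Functor.comp_map] at e1 e3
  rw [← e1, reassoc_of% e3, reassoc_of% e2]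

theorem τ_eq (M : Y'.Modules) : ZarCoh.AffineBC.τ h.flip M =
    (Coh.push g).map ((Scheme.Modules.pullbackPushforwardAdjunction f').unit.app M) ≫ (α h _).hom :=
  rfl

/-- the counit of `f` on `g'_* N` through the counit of `f'` -/
theorem counit_fac (N : X'.Modules) :
    (Scheme.Modules.pullback f).map (α h N).hom ≫
      (Scheme.Modules.pullbackPushforwardAdjunction f).counit.app ((Coh.push g').obj N) =
    ZarCoh.AffineBC.bc h.flip ((Coh.push f').obj N) ≫
      (Coh.push g').map ((Scheme.Modules.pullbackPushforwardAdjunction f').counit.app N) := by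
  apply ((Scheme.Modules.pullbackPushforwardAdjunction f).homEquiv _ _).injective
  rw [Adjunction.homEquiv_naturality_left, Adjunction.homEquiv_naturality_right, ZarCoh.AffineBC.bc,
    Equiv.apply_symm_apply, τ_eq]
  simp only [Adjunction.homEquiv_unit, Category.assoc]
  erw [(Scheme.Modules.pullbackPushforwardAdjunction f).right_triangle_components]
  rw [α_natural]
  erw [← Functor.map_comp_assoc, (Scheme.Modules.pullbackPushforwardAdjunction f').right_triangle_components]
  erw [CategoryTheory.Functor.map_id, Category.id_comp, Category.comp_id]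
  rfl

include h in
theorem epi_counit [IsAffineHom g] [QuasiCompact f'] [QuasiSeparated f'] (N : X'.Modules) [N.IsQuasicoherent]
    (hN : Epi ((Scheme.Modules.pullbackPushforwardAdjunction f').counit.app N)) :
    Epi ((Scheme.Modules.pullbackPushforwardAdjunction f).counit.app ((Coh.push g').obj N)) := by
  haveI : ((Coh.push f').obj N).IsQuasicoherent := QCoh.Pushforward.isQCoh_pushforward f' (M := N)
  haveI : IsAffineHom g' := MorphismProperty.of_isPullback h.flip inferInstance
  haveI : IsIso (ZarCoh.AffineBC.bc h.flip ((Coh.push f').obj N)) := ZarCoh.AffineBC.isIso_bc _ _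
  haveI := QCoh.Pullback.isQCoh_pullback f' ((Coh.push f').obj N)
  haveI : Epi ((Coh.push g').map ((Scheme.Modules.pullbackPushforwardAdjunction f').counit.app N)) :=
    haveI : ((Scheme.Modules.pushforward f' ⋙ Scheme.Modules.pullback f').obj N :
        X'.Modules).IsQuasicoherent :=
      QCoh.Pullback.isQCoh_pullback f' ((Coh.push f').obj N)
    haveI : ((𝟭 X'.Modules).obj N : X'.Modules).IsQuasicoherent := ‹N.IsQuasicoherent›
    QCoh.Sections.epi_pushforward_map g' _
  haveI : Epi ((Scheme.Modules.pullback f).map (α h N).hom ≫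
      (Scheme.Modules.pullbackPushforwardAdjunction f).counit.app ((Coh.push g').obj N)) := by
    rw [counit_fac h N]
    exact epi_comp (ZarCoh.AffineBC.bc h.flip ((Coh.push f').obj N)) _
  exact epi_of_epi ((Scheme.Modules.pullback f).map (α h N).hom) _

/-- twisting a pushed forward module -/
def twistIso {L : X.Modules} (hL : PicF.IsInvertible L) (G : X'.Modules) (n : ℕ) :
    CohB1.tensorMod ((Coh.push g').obj G) (CohB1.tensorPow L n) ≅
      (Coh.push g').obj (CohB1.tensorMod G (CohB1.tensorPow ((Scheme.Modules.pullback g').obj L) n)) :=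
  TensorMod.Basic.comm _ _ ≪≫
    (Modules.ProjFormula.projIso g' (E := CohB1.tensorPow L n)
      (Modules.DualBasis.hasDBases_of_isFinLocFree (TensorMod.LocFree.of_rank
        (TensorMod.LocFree.of_isInvertible (TensorMod.Invertible.isInvertible_tensorPow hL n))))).app G ≪≫
    (Coh.push g').mapIso (TensorMod.Basic.comm _ _ ≪≫
      TensorMod.Basic.tensorIso (Iso.refl _) (Ample.Pow.pullbackPow g' L n))

include h in
theorem main [IsNoetherian Y] (hf : RelProj.IsProjective f) {L : X.Modules} (hL : PicF.IsInvertible L)
    (hamp : RelAmple.IsRelAmple f L) [IsAffineHom g] [LocallyOfFiniteType g] {G : X'.Modules} (hG : Coh.IsCoh G) :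
    ∃ N : ℕ, ∀ n : ℕ, N ≤ n →
      (∀ p : ℕ, 0 < p →
        IsZero ((Coh.RpushAb f p).obj (Coh.toAb (CohB1.tensorMod ((Coh.push g').obj G) (CohB1.tensorPow L n))))) ∧
      Epi ((Scheme.Modules.pullbackPushforwardAdjunction f).counit.app
        (CohB1.tensorMod ((Coh.push g').obj G) (CohB1.tensorPow L n))) := by
  haveI : IsProper f := HProj.Proper.isProper_of_isProjective hf
  haveI : IsProper f' := MorphismProperty.of_isPullback h inferInstance
  haveI : IsAffineHom g' := MorphismProperty.of_isPullback h.flip inferInstance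
  haveI : IsLocallyNoetherian Y' := LocallyOfFiniteType.isLocallyNoetherian g
  haveI : CompactSpace Y' := QuasiCompact.compactSpace_of_compactSpace g
  haveI : IsNoetherian Y' := { }
  haveI : CompactSpace X' := QuasiCompact.compactSpace_of_compactSpace f'
  let L' := (Scheme.Modules.pullback g').obj L
  have hL' : PicF.IsInvertible L' := PicLoc.isInvertible_pullback g' hL
  have hamp' : _root_.RelAmple.IsRelAmple f' L' := by
    refine Ample.RelAmple.isRelAmple_of_comp f' g ?_
    rw [← h.w]
    exact Ample.RelAmple.isRelAmple_pullback f g' (Ample.Pullback.isQuasiAffine_of_isAffineHom g') hamp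
  obtain ⟨n₁, hn₁⟩ := Groth.Agent.S0055.result f' L' hL' (fun W hW => hamp'.2 ⟨W, hW⟩) G hG
  obtain ⟨n₂, -, hn₂⟩ := Ample.CounitCrit.eventually_epi_counit f' L' hamp' G hG
  refine ⟨max n₁ n₂, fun n hn => ?_⟩
  let N := CohB1.tensorMod G (CohB1.tensorPow L' n)
  have hN : Coh.IsCoh N := CohBasics.Closure.isCoh_of_iso (TensorMod.Basic.comm _ _)
    (Snapper.Twist.isCoh_twist (TensorMod.Invertible.isInvertible_tensorPow hL' n) hG)
  haveI : N.IsQuasicoherent := hN.1
  haveI : Coh.IsQCoh N := hN.1
  refine ⟨fun p hp => ?_, ?_⟩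
  · refine IsZero.of_iso ?_ ((Coh.RpushAb f p).mapIso ((SheafOfModules.toSheaf X.ringCatSheaf).mapIso (twistIso hL G n)))
    obtain ⟨i⟩ := Groth.Agent.S4456.result g' f N p
    refine IsZero.of_iso ?_ i
    obtain ⟨j⟩ := Groth.Agent.S4457.result f' g N p
    rw [h.w]
    refine IsZero.of_iso ?_ j
    exact (Coh.pushAb g).map_isZero (hn₁ n ((le_max_left _ _).trans hn) p hp)
  · have h1 := epi_counit h N (hn₂ n ((le_max_right _ _).trans hn))
    haveI := h1
    have e : (Scheme.Modules.pullback f).map ((Coh.push f).map (twistIso hL G n).inv) ≫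
        (Scheme.Modules.pullbackPushforwardAdjunction f).counit.app
          (CohB1.tensorMod ((Coh.push g').obj G) (CohB1.tensorPow L n)) =
        (Scheme.Modules.pullbackPushforwardAdjunction f).counit.app ((Coh.push g').obj N) ≫
          (twistIso hL G n).inv :=
      (Scheme.Modules.pullbackPushforwardAdjunction f).counit.naturality (twistIso hL G n).inv
    haveI : Epi ((Scheme.Modules.pullback f).map ((Coh.push f).map (twistIso hL G n).inv) ≫
        (Scheme.Modules.pullbackPushforwardAdjunction f).counit.app
          (CohB1.tensorMod ((Coh.push g').obj G) (CohB1.tensorPow L n))) := by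
      rw [e]
      exact epi_comp ((Scheme.Modules.pullbackPushforwardAdjunction f).counit.app ((Coh.push g').obj N)) _
    exact epi_of_epi ((Scheme.Modules.pullback f).map ((Coh.push f).map (twistIso hL G n).inv)) _

end Groth.Agent.Lib.Exchange.AffPush
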